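import Mathlib
/-!
Irreducible components through a point and components of the spectrum of the local ring.
-/
universe u
open AlgebraicGeometry CategoryTheory TopologicalSpace
set_option backward.isDefEq.respectTransparency false

namespace Groth.Agent.CompLib

variable (X : Scheme.{u}) (x : X)

theorem bijOn_specStalk :
    Set.BijOn (fun z : Spec (X.presheaf.stalk x) => closure ({X.fromSpecStalk x z} : Set X))
      {z | closure ({z} : Set (Spec (X.presheaf.stalk x))) ∈
        irreducibleComponents (Spec (X.presheaf.stalk x) : Type u)}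
      {Z | Z ∈ irreducibleComponents (X : Type u) ∧ x ∈ Z} := by
  have hr : Set.range (X.fromSpecStalk x) = {y | y ⤳ x} := X.range_fromSpecStalk
  have hind := (X.fromSpecStalk x).isEmbedding.isInducing
  refine ⟨fun z hz => ⟨?_, ?_⟩, ?_, ?_⟩
  · obtain ⟨W, hW, hle⟩ := exists_mem_irreducibleComponents_subset_of_isIrreducible _
      ((isIrreducible_singleton (x := X.fromSpecStalk x z)).closure)
    have hWirr : IsIrreducible W := hW.1
    have hWcl : IsClosed W := isClosed_of_mem_irreducibleComponents _ hW
    have hη : closure ({hWirr.genericPoint} : Set X) = W :=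
      hWirr.closure_genericPoint hWcl
    have hsp : hWirr.genericPoint ⤳ X.fromSpecStalk x z := by
      rw [specializes_iff_mem_closure, hη]; exact hle (subset_closure rfl)
    have hzx : X.fromSpecStalk x z ⤳ x := by
      have : X.fromSpecStalk x z ∈ Set.range (X.fromSpecStalk x) := ⟨z, rfl⟩
      rwa [hr] at this
    obtain ⟨z', hz'⟩ : hWirr.genericPoint ∈ Set.range (X.fromSpecStalk x) := by
      rw [hr]; exact hsp.trans hzx
    have h1 : z' ⤳ z := hind.specializes_iff.1 (hz'.symm ▸ hsp)
    have h2 : closure ({z'} : Set (Spec (X.presheaf.stalk x))) ⊆ closure {z} :=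
      hz.2 isIrreducible_singleton.closure (closure_minimal (Set.singleton_subset_iff.2
        (specializes_iff_mem_closure.1 h1)) isClosed_closure)
    have h3 : z = z' := ((specializes_iff_mem_closure.2 (h2 (subset_closure rfl))).antisymm h1).eq
    change closure {X.fromSpecStalk x z} ∈ _
    rw [h3, hz', hη]
    exact hW
  · have : X.fromSpecStalk x z ∈ Set.range (X.fromSpecStalk x) := ⟨z, rfl⟩
    rw [hr] at this
    exact specializes_iff_mem_closure.1 this
  · intro a _ b _ hab
    refine (X.fromSpecStalk x).isEmbedding.injective ?_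
    exact Inseparable.eq (inseparable_iff_closure_eq.2 hab)
  · rintro Z ⟨hZ, hxZ⟩
    have hZirr : IsIrreducible Z := hZ.1
    have hη : closure ({hZirr.genericPoint} : Set X) = Z :=
      hZirr.closure_genericPoint (isClosed_of_mem_irreducibleComponents _ hZ)
    obtain ⟨z, hz⟩ : hZirr.genericPoint ∈ Set.range (X.fromSpecStalk x) := by
      rw [hr]; change _ ⤳ x; rw [specializes_iff_mem_closure, hη]; exact hxZ
    refine ⟨z, ?_, by change closure {X.fromSpecStalk x z} = Z; rw [hz, hη]⟩
    obtain ⟨T, hT, hle⟩ := exists_mem_irreducibleComponents_subset_of_isIrreducible _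
      ((isIrreducible_singleton (x := z)).closure)
    have hTirr : IsIrreducible T := hT.1
    have hT' : closure ({hTirr.genericPoint} : Set _) = T :=
      hTirr.closure_genericPoint (isClosed_of_mem_irreducibleComponents _ hT)
    have h1 : hTirr.genericPoint ⤳ z := by
      rw [specializes_iff_mem_closure, hT']; exact hle (subset_closure rfl)
    have h2 := h1.map (X.fromSpecStalk x).continuous
    rw [hz] at h2
    have hsub : Z ⊆ closure ({X.fromSpecStalk x hTirr.genericPoint} : Set X) := by
      rw [← hη]; exact closure_minimal (Set.singleton_subset_iff.2 (specializes_iff_mem_closure.1 h2))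
        isClosed_closure
    have h3 : X.fromSpecStalk x hTirr.genericPoint ∈ Z :=
      hZ.2 isIrreducible_singleton.closure hsub (subset_closure rfl)
    rw [← hη, ← hz, ← specializes_iff_mem_closure, hind.specializes_iff] at h3
    have h4 : z = hTirr.genericPoint := (h3.antisymm h1).eq
    change (closure {z} : Set (Spec (X.presheaf.stalk x) : Type u)) ∈ irreducibleComponents (Spec (X.presheaf.stalk x) : Type u)
    rw [h4, hT']
    exact hT

/-- components through x form a subsingleton iff the nilradical of the stalk is prime -/
theorem isPrime_nilradical_iff :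
    (nilradical (X.presheaf.stalk x)).IsPrime ↔
      {Z | Z ∈ irreducibleComponents (X : Type u) ∧ x ∈ Z}.Subsingleton := by
  rw [← PrimeSpectrum.irreducibleSpace_iff_isPrime_nilradical, ← (bijOn_specStalk X x).image_eq]
  constructor
  · intro h
    haveI : IrreducibleSpace (Spec (X.presheaf.stalk x)) := h
    refine Set.Subsingleton.image ?_ _
    intro a ha b hb
    have key : ∀ c, closure ({c} : Set (Spec (X.presheaf.stalk x))) ∈ irreducibleComponents _ →
        closure ({c} : Set (Spec (X.presheaf.stalk x))) = Set.univ := fun c hc =>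
      subset_antisymm (Set.subset_univ _) (hc.2 (IrreducibleSpace.isIrreducible_univ _) (Set.subset_univ _))
    exact Inseparable.eq (inseparable_iff_closure_eq.2 ((key a ha).trans (key b hb).symm))
  · intro h
    haveI : Nonempty (PrimeSpectrum (X.presheaf.stalk x)) := ⟨IsLocalRing.closedPoint _⟩
    obtain ⟨T, hT, -⟩ := exists_mem_irreducibleComponents_subset_of_isIrreducible _
      (isIrreducible_singleton (x := (IsLocalRing.closedPoint (X.presheaf.stalk x) : Spec (X.presheaf.stalk x))))
    have huniv : T = Set.univ := by
      refine Set.eq_univ_iff_forall.2 fun c => ?_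
      obtain ⟨T', hT', hle⟩ := exists_mem_irreducibleComponents_subset_of_isIrreducible _
        (isIrreducible_singleton (x := c))
      have e : ∀ T, ∀ hT : T ∈ irreducibleComponents (Spec (X.presheaf.stalk x) : Type u),
          ∃ a, closure ({a} : Set (Spec (X.presheaf.stalk x))) = T := fun T hT =>
        ⟨hT.1.genericPoint, hT.1.closure_genericPoint (isClosed_of_mem_irreducibleComponents _ hT)⟩
      obtain ⟨a, ha⟩ := e T hT
      obtain ⟨b, hb⟩ := e T' hT'
      have hab : a = b := (X.fromSpecStalk x).isEmbedding.injective <| Inseparable.eq <|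
        inseparable_iff_closure_eq.2 <| h ⟨a, by rwa [Set.mem_setOf_eq, ha], rfl⟩
          ⟨b, by rwa [Set.mem_setOf_eq, hb], rfl⟩
      rw [← ha, hab, hb]; exact hle rfl
    have : IsIrreducible (Set.univ : Set (PrimeSpectrum (X.presheaf.stalk x))) := huniv ▸ hT.1
    exact { isPreirreducible_univ := this.2, toNonempty := inferInstance }

theorem pairwiseDisjoint_iff :
    (irreducibleComponents (X : Type u)).PairwiseDisjoint id ↔
      ∀ x : X, (nilradical (X.presheaf.stalk x)).IsPrime := by
  simp only [isPrime_nilradical_iff]
  constructor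
  · intro h x Z hZ Z' hZ'
    by_contra hne
    exact Set.disjoint_left.1 (h hZ.1 hZ'.1 hne) hZ.2 hZ'.2
  · intro h Z hZ Z' hZ' hne
    exact Set.disjoint_left.2 fun x hx hx' => hne (h x ⟨hZ, hx⟩ ⟨hZ', hx'⟩)

end Groth.Agent.CompLib
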